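import Mathlib

set_option linter.style.haveILetI false
set_option linter.unusedVariables false
set_option linter.unusedSectionVars false
set_option autoImplicit false
set_option backward.isDefEq.respectTransparency.types false
set_option backward.isDefEq.respectTransparency false
set_option synthInstance.maxHeartbeats 400000
set_option maxHeartbeats 1600000

universe u

/-! helper7: the spectrum of the local ring of a scheme at a point as the cofiltered limit of the affine open neighbourhoods of the point; base change of this presentation along a morphism; models of preimages of open subsets -/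

open CategoryTheory CategoryTheory.Limits AlgebraicGeometry Opposite TopologicalSpace

namespace Groth.Agent.Helper7.StalkLim

section Cone

variable (S : Scheme.{u}) (s : S)

/-- affine open neighbourhoods of `s`. -/
abbrev Nb : Type u := {U : S.Opens // IsAffineOpen U ∧ s ∈ U}

theorem exists_nb_le (V : S.Opens) (hV : s ∈ V) : ∃ U : Nb S s, U.1 ≤ V := by
  obtain ⟨U, hU, hsU, hUV⟩ := Opens.isBasis_iff_nbhd.mp S.isBasis_affineOpens hV
  exact ⟨⟨U, hU, hsU⟩, hUV⟩

instance : Nonempty (Nb S s) := by
  obtain ⟨U, _⟩ := exists_nb_le S s ⊤ trivial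
  exact ⟨U⟩

instance : IsDirected (Nb S s) (· ≥ ·) :=
  ⟨fun a b => by
    obtain ⟨U, hU⟩ := exists_nb_le S s (a.1 ⊓ b.1) ⟨a.2.2, b.2.2⟩
    exact ⟨U, (hU.trans inf_le_left : U.1 ≤ a.1), (hU.trans inf_le_right : U.1 ≤ b.1)⟩⟩

instance : IsCofiltered (Nb S s) := inferInstance

/-- the forgetful functor to open subsets. -/
abbrev nbIncl : Nb S s ⥤ S.Opens :=
  (Subtype.mono_coe (fun U : S.Opens => IsAffineOpen U ∧ s ∈ U)).functor

/-- the diagram of rings of sections over the affine open neighbourhoods. -/
noncomputable def ringDiag : (Nb S s)ᵒᵖ ⥤ CommRingCat.{u} := (nbIncl S s).op ⋙ S.presheaf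

/-- the cocone of germs. -/
noncomputable def ringCocone : Cocone (ringDiag S s) where
  pt := S.presheaf.stalk s
  ι :=
    { app := fun U => S.presheaf.germ U.unop.1 s U.unop.2.2
      naturality := fun U V f =>
        (S.presheaf.germ_res ((nbIncl S s).map f.unop) s V.unop.2.2).trans
          (Category.comp_id _).symm }

theorem isColimit_ringCocone : Nonempty (IsColimit (ringCocone S s)) := by
  let G : CommRingCat.{u} ⥤ Type u := forget CommRingCat
  have : G.ReflectsIsomorphisms := inferInstance
  have : HasColimit (ringDiag S s) := inferInstance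
  have : PreservesColimit (ringDiag S s) G := inferInstance
  have : ReflectsColimit (ringDiag S s) G := reflectsColimit_of_reflectsIsomorphisms _ G
  refine ⟨isColimitOfReflects G ?_⟩
  refine Types.FilteredColimit.isColimitOf' (ringDiag S s ⋙ G) (G.mapCocone (ringCocone S s)) ?_ ?_
  · intro x
    obtain ⟨V, hV, t, ht⟩ := S.presheaf.exists_germ_eq (x := s) x
    obtain ⟨U, hU⟩ := exists_nb_le S s V hV
    refine ⟨op U, S.presheaf.map (homOfLE hU).op t, ?_⟩
    rw [← ht]
    exact (S.presheaf.germ_res_apply (homOfLE hU) s U.2.2 t).symm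
  · intro j y y' h
    obtain ⟨V, hV, iU, iV, e⟩ := S.presheaf.germ_eq s j.unop.2.2 j.unop.2.2 y y' h
    obtain ⟨U, hU⟩ := exists_nb_le S s V hV
    have hle : U.1 ≤ j.unop.1 := hU.trans iU.le
    refine ⟨op U, (homOfLE (show U ≤ j.unop from hle)).op, ?_⟩
    have key : ∀ z : Γ(S, j.unop.1), S.presheaf.map (homOfLE hle).op z =
        S.presheaf.map (homOfLE hU).op (S.presheaf.map iU.op z) := by
      intro z
      rw [← ConcreteCategory.comp_apply, ← Functor.map_comp]
      rfl
    have e' : S.presheaf.map iU.op y = S.presheaf.map iU.op y' := by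
      have : iV = iU := Subsingleton.elim _ _
      rw [this] at e
      exact e
    show S.presheaf.map (homOfLE hle).op y = S.presheaf.map (homOfLE hle).op y'
    rw [key y, key y', e']

/-- the diagram of spectra of the rings of sections. -/
noncomputable def specDiag : Nb S s ⥤ Scheme.{u} := (ringDiag S s).rightOp ⋙ Scheme.Spec

/-- the cone of spectra of the germ maps. -/
noncomputable def specCone : Cone (specDiag S s) :=
  Scheme.Spec.mapCone (coneRightOpOfCocone (ringCocone S s))

theorem isLimit_specCone : Nonempty (IsLimit (specCone S s)) :=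
  ⟨isLimitOfPreserves Scheme.Spec
    (isLimitConeRightOpOfCocone (ringDiag S s) (isColimit_ringCocone S s).some)⟩

/-- the diagram of affine open neighbourhoods. -/
noncomputable def nbDiag : Nb S s ⥤ Scheme.{u} where
  obj U := U.1.toScheme
  map {U V} f := S.homOfLE (Subtype.coe_le_coe.mpr (leOfHom f))
  map_id U := S.homOfLE_rfl U.1
  map_comp f g := (S.homOfLE_homOfLE _ _).symm

theorem spec_nat {U V : Nb S s} (f : U ⟶ V) :
    (specDiag S s).map f ≫ V.2.1.isoSpec.inv = U.2.1.isoSpec.inv ≫ (nbDiag S s).map f := by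
  rw [← cancel_mono V.1.ι, Category.assoc, Category.assoc]
  change Spec.map (S.presheaf.map (homOfLE (Subtype.coe_le_coe.mpr (leOfHom f))).op) ≫
    V.2.1.isoSpec.inv ≫ V.1.ι = U.2.1.isoSpec.inv ≫
      S.homOfLE (Subtype.coe_le_coe.mpr (leOfHom f)) ≫ V.1.ι
  rw [IsAffineOpen.isoSpec_inv_ι, Scheme.homOfLE_ι, IsAffineOpen.isoSpec_inv_ι]
  exact V.2.1.map_fromSpec U.2.1 _

/-- the comparison of the two diagrams. -/
noncomputable def specIsoNb : specDiag S s ≅ nbDiag S s :=
  NatIso.ofComponents (fun U => U.2.1.isoSpec.symm) (fun f => spec_nat S s f)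

/-- the cone over the affine open neighbourhoods with vertex the spectrum of the local ring. -/
noncomputable def nbCone : Cone (nbDiag S s) :=
  (Cone.postcompose (specIsoNb S s).hom).obj (specCone S s)

theorem isLimit_nbCone : Nonempty (IsLimit (nbCone S s)) :=
  ⟨(IsLimit.postcomposeHomEquiv (specIsoNb S s) (specCone S s)).symm (isLimit_specCone S s).some⟩

theorem nbCone_π_ι (U : Nb S s) :
    (nbCone S s).π.app U ≫ U.1.ι = S.fromSpecStalk s := by
  change (Spec.map (S.presheaf.germ U.1 s U.2.2) ≫ U.2.1.isoSpec.inv) ≫ U.1.ι = _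
  rw [Category.assoc, IsAffineOpen.isoSpec_inv_ι]
  exact U.2.1.fromSpecStalk_eq_fromSpecStalk U.2.2

instance (U : Nb S s) : IsAffine ((nbDiag S s).obj U) := U.2.1

instance {U V : Nb S s} (f : U ⟶ V) : IsAffineHom ((nbDiag S s).map f) := inferInstance

instance : IsAffine (nbCone S s).pt := by
  change IsAffine (Spec (S.presheaf.stalk s))
  infer_instance

end Cone

section BC

variable {S : Scheme.{u}} {s : S} {X : Scheme.{u}} (f : X ⟶ S) (W : Nb S s)

/-- the projection from the base change of `X` to the local scheme at `s` to the preimage of an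
affine open neighbourhood of `s`. -/
noncomputable def toPreimage : pullback f (S.fromSpecStalk s) ⟶ (f ⁻¹ᵁ W.1).toScheme :=
  (isPullback_morphismRestrict f W.1).lift
    (pullback.snd f (S.fromSpecStalk s) ≫ (nbCone S s).π.app W)
    (pullback.fst f (S.fromSpecStalk s))
    (by rw [Category.assoc, nbCone_π_ι, pullback.condition])

@[reassoc]
theorem toPreimage_ι :
    toPreimage f W ≫ (f ⁻¹ᵁ W.1).ι = pullback.fst f (S.fromSpecStalk s) :=
  (isPullback_morphismRestrict f W.1).lift_snd _ _ _

@[reassoc]
theorem toPreimage_restrict :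
    toPreimage f W ≫ (f ∣_ W.1) =
      pullback.snd f (S.fromSpecStalk s) ≫ (nbCone S s).π.app W :=
  (isPullback_morphismRestrict f W.1).lift_fst _ _ _

theorem isPullback_toPreimage :
    IsPullback (toPreimage f W) (pullback.snd f (S.fromSpecStalk s)) (f ∣_ W.1)
      ((nbCone S s).π.app W) := by
  refine IsPullback.of_right (h₁₂ := (f ⁻¹ᵁ W.1).ι) (h₂₂ := W.1.ι) (v₁₃ := f) ?_
    (toPreimage_restrict f W) (isPullback_morphismRestrict f W.1).flip
  rw [toPreimage_ι, nbCone_π_ι]
  exact IsPullback.of_hasPullback f (S.fromSpecStalk s)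

/-- a stage of the base-changed diagram is the preimage of the corresponding neighbourhood. -/
theorem isPullback_stage (j : Over W) :
    IsPullback (pullback.fst (f ∣_ W.1) ((nbDiag S s).map j.hom) ≫ (f ⁻¹ᵁ W.1).ι)
      (pullback.snd (f ∣_ W.1) ((nbDiag S s).map j.hom)) f j.left.1.ι := by
  have h := (IsPullback.of_hasPullback (f ∣_ W.1) ((nbDiag S s).map j.hom)).paste_horiz
    (isPullback_morphismRestrict f W.1).flip
  have e : (nbDiag S s).map j.hom ≫ W.1.ι = j.left.1.ι :=
    S.homOfLE_ι (Subtype.coe_le_coe.mpr (leOfHom j.hom))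
  rwa [e] at h

end BC

section Transfer

variable {X S Z : Scheme.{u}} (f : X ⟶ S) (U : S.Opens) {m : Z ⟶ X} {p : Z ⟶ U.toScheme}
  (hP : IsPullback m p f U.ι)

/-- a model of the preimage of an open subset is isomorphic to the preimage. -/
noncomputable def stageIso : Z ≅ (f ⁻¹ᵁ U).toScheme :=
  hP.isoIsPullback _ _ (isPullback_morphismRestrict f U).flip

@[reassoc]
theorem stageIso_hom_ι : (stageIso f U hP).hom ≫ (f ⁻¹ᵁ U).ι = m :=
  hP.isoIsPullback_hom_fst _ _ _

@[reassoc]
theorem stageIso_inv_m : (stageIso f U hP).inv ≫ m = (f ⁻¹ᵁ U).ι :=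
  hP.isoIsPullback_inv_fst _ _ _

include hP in
theorem mono_of_isPullback : Mono m := hP.mono_fst_of_mono

theorem comp_stageIso_inv {Y : Scheme.{u}} (h : Y ⟶ Z) (ι : Y ⟶ (f ⁻¹ᵁ U).toScheme)
    (w : ι ≫ (f ⁻¹ᵁ U).ι = h ≫ m) : ι ≫ (stageIso f U hP).inv = h := by
  haveI : Mono m := mono_of_isPullback f U hP
  rw [← cancel_mono m, Category.assoc, stageIso_inv_m, w]

end Transfer

end Groth.Agent.Helper7.StalkLim
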