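import Mathlib
import Groth.Prelude.Def_CohB1
import Groth.Prelude.Def_Pic
import Groth.Prelude.Def_Curv2
import Groth.Prelude.Def_FlatMod2
import Groth.Agent.Lib.Helper7.StalkLim.Cone
import Groth.Agent.Lib.Helper7.GenStage.Main
import Groth.Agent.Lib.Lead.LimFitt
import Groth.Agent.Lib.Helper1.Dv16
import Groth.Agent.Lib.Helper1.PullGen2
import Groth.Agent.Lib.Helper1.InvQc
import Groth.Agent.Lib.Helper1.FPA14
import Groth.Agent.Lib.Helper5.Perf.FtFpCharts
import Groth.Agent.Lib.Helper5.Perf.Pull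
import Groth.Agent.Lib.Lead.FLF1
import Groth.Agent.Lib.Lead.FLF6

set_option linter.style.haveILetI false
set_option linter.unusedVariables false
set_option linter.unusedSectionVars false
set_option autoImplicit false
set_option backward.isDefEq.respectTransparency.types false
set_option backward.isDefEq.respectTransparency false
set_option synthInstance.maxHeartbeats 400000
set_option maxHeartbeats 1600000

universe u

/-! helper7: spreading out from the base change to the local scheme at a point to the preimage of an open neighbourhood: invertible modules and global generation (via descent of finitely presented modules and of epimorphisms along the limit of affine neighbourhoods) -/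

open CategoryTheory CategoryTheory.Limits AlgebraicGeometry Opposite TopologicalSpace

namespace Groth.Agent.Helper7.StalkLim

open Groth.Agent.Helper7.LimBC Groth.Agent.Helper7.ConsMod Groth.Agent.Helper7.GenStage

section Gen

variable {X : Scheme.{u}}

theorem isFinLocFreeOfRank_of_iso {M N : X.Modules} (e : M ≅ N) {n : ℕ}
    (h : FlatMod.IsFinLocFreeOfRank n M) : FlatMod.IsFinLocFreeOfRank n N := fun x => by
  obtain ⟨U, hxU, ⟨i⟩⟩ := h x
  exact ⟨U, hxU, ⟨((Scheme.Modules.restrictFunctor U.ι).mapIso e).symm ≪≫ i⟩⟩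

theorem isFinLocFreeOfRank_one {L : X.Modules} (hL : PicF.IsInvertible L) :
    FlatMod.IsFinLocFreeOfRank 1 L := fun x => by
  obtain ⟨U, hxU, ⟨e⟩⟩ := hL x
  exact ⟨U, hxU, ⟨e ≪≫
    (Groth.Agent.Helper1.Dv.coprodOneIso (Coh.structureModule (↑U : Scheme.{u}))).symm⟩⟩

theorem isInvertible_of_rank_one {K : X.Modules} (hK : FlatMod.IsFinLocFreeOfRank 1 K) :
    PicF.IsInvertible K := fun x => by
  obtain ⟨U, hxU, ⟨e⟩⟩ := hK x
  exact ⟨U, hxU, ⟨e ≪≫
    Groth.Agent.Helper1.Dv.coprodOneIso (Coh.structureModule (↑U : Scheme.{u}))⟩⟩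

theorem isFP_of_isFinLocFreeOfRank (F : X.Modules) {n : ℕ}
    (hF : FlatMod.IsFinLocFreeOfRank n F) : CohB1.IsFP F := by
  apply Groth.Agent.Lib.Helper5.FtFp.isFP_of_charts
  intro x
  obtain ⟨U, hxU, ⟨e⟩⟩ := hF x
  exact ⟨U, U.ι, inferInstance, 0, n, ⟨⟨x, hxU⟩, rfl⟩, 0, ⟨e ≪≫ (cokernelZeroIsoTarget).symm⟩⟩

theorem isFinLocFreeOfRank_freeMod (n : ℕ) :
    FlatMod.IsFinLocFreeOfRank n (FlatMod.freeMod X n) :=
  fun x => ⟨⊤, trivial, ⟨Groth.Agent.Lead.FLF.freeRestrictIso (⊤ : X.Opens).ι n⟩⟩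

theorem isFinLocFree_of_rank {F : X.Modules} {n : ℕ} (hF : FlatMod.IsFinLocFreeOfRank n F) :
    FlatMod.IsFinLocFree F := fun x => by
  obtain ⟨U, h1, h2⟩ := hF x
  exact ⟨U, n, h1, h2⟩

/-- an epimorphism from a finite free module exhibits global generation. -/
theorem isGloballyGenerated_of_epi_freeMod {M : X.Modules} {k : ℕ}
    (p : FlatMod.freeMod X k ⟶ M) [Epi p] : Curv2.IsGloballyGenerated M := by
  let w : (∐ fun _ : ULift.{u} (Fin k) => Coh.structureModule X) ≅ FlatMod.freeMod X k :=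
    Sigma.whiskerEquiv (f := fun _ : ULift.{u} (Fin k) => Coh.structureModule X)
      (g := fun _ : Fin k => Coh.structureModule X) Equiv.ulift (fun _ => Iso.refl _)
  exact ⟨ULift.{u} (Fin k), w.hom ≫ p, epi_comp _ _⟩

/-- a globally generated quasi-coherent module of finite type on a quasi-compact scheme is a
quotient of a free module of finite rank. -/
theorem exists_finite_epi [CompactSpace X] (M : X.Modules) [M.IsQuasicoherent]
    (hM : CohB1.IsFT M) (hg : Curv2.IsGloballyGenerated M) :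
    ∃ (n : ℕ) (q : FlatMod.freeMod X n ⟶ M), Epi q := by
  obtain ⟨ι, p, hp⟩ := hg
  let f : ι → X.Modules := fun _ => Coh.structureModule X
  let c := CoproductsFromFiniteFiltered.finiteSubcoproductsCocone f
  have hc : IsColimit c := CoproductsFromFiniteFiltered.isColimitFiniteSubproductsCocone f
  haveI : c.pt.IsQuasicoherent :=
    (inferInstance : (SheafOfModules.free ι : X.Modules).IsQuasicoherent)
  let u : c.pt ⟶ M := p
  haveI : Epi u := hp
  obtain ⟨S₀, hS₀⟩ := Groth.Agent.Helper1.FPA.exists_stage_epi c hc M hM u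
  have h1 : Epi (c.ι.app S₀ ≫ u) := hS₀ S₀ ⟨𝟙 S₀⟩
  let e : Fin S₀.card ≃ {x // x ∈ S₀} := S₀.equivFin.symm
  let w : (∐ fun _ : Fin S₀.card => Coh.structureModule X) ≅
      ∐ fun x : {x // x ∈ S₀} => (Discrete.functor f).obj x.1 :=
    Sigma.whiskerEquiv (f := fun _ : Fin S₀.card => Coh.structureModule X)
      (g := fun x : {x // x ∈ S₀} => (Discrete.functor f).obj x.1) e (fun _ => Iso.refl _)
  exact ⟨S₀.card, w.hom ≫ c.ι.app S₀ ≫ u, epi_comp _ _⟩

end Gen

section Main

variable {X S : Scheme.{u}} (f : X ⟶ S) [QuasiCompact f] [QuasiSeparated f] (s : S)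

/-- the restriction of `f` over an affine open neighbourhood, as a morphism to a stage. -/
noncomputable abbrev restr (W : Nb S s) : (f ⁻¹ᵁ W.1).toScheme ⟶ (nbDiag S s).obj W := f ∣_ W.1

omit [QuasiCompact f] [QuasiSeparated f] in
theorem isPullback_restr (W : Nb S s) :
    IsPullback (Y := (nbCone S s).pt) (Z := (nbDiag S s).obj W) (toPreimage f W) (pullback.snd f (S.fromSpecStalk s))
      (restr f s W) ((nbCone S s).π.app W) :=
  isPullback_toPreimage f W

/-- an invertible module on the base change of `X` to the local scheme of `S` at `s` extends to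
an invertible module on the preimage of an open neighbourhood of `s`. -/
theorem exists_invertible_extension (L : (pullback f (S.fromSpecStalk s)).Modules)
    (hL : PicF.IsInvertible L) :
    ∃ (V : S.Opens) (_ : s ∈ V) (L' : (↑(f ⁻¹ᵁ V) : Scheme.{u}).Modules), PicF.IsInvertible L' ∧
      ∀ (ι : pullback f (S.fromSpecStalk s) ⟶ ↑(f ⁻¹ᵁ V)),
        ι ≫ (f ⁻¹ᵁ V).ι = pullback.fst f (S.fromSpecStalk s) →
        Nonempty ((Scheme.Modules.pullback ι).obj L' ≅ L) := by
  obtain ⟨W⟩ := (inferInstance : Nonempty (Nb S s))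
  obtain ⟨hc⟩ := isLimit_nbCone S s
  have hY := isPullback_restr f s W
  have hI : ∀ {i j : Nb S s} (f : i ⟶ j), IsAffineHom ((nbDiag S s).map f) :=
    fun f => inferInstance
  haveI : QuasiCompact (f ∣_ W.1) := MorphismProperty.of_isPullback (P := @QuasiCompact)
    (isPullback_morphismRestrict f W.1).flip inferInstance
  haveI : QuasiSeparated (f ∣_ W.1) := MorphismProperty.of_isPullback (P := @QuasiSeparated)
    (isPullback_morphismRestrict f W.1).flip inferInstance
  haveI : IsAffine (W.1.toScheme) := W.2.1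
  haveI : CompactSpace ↥(f ⁻¹ᵁ W.1).toScheme :=
    QuasiCompact.compactSpace_of_compactSpace (f ∣_ W.1)
  haveI : QuasiSeparatedSpace ↥(f ⁻¹ᵁ W.1).toScheme :=
    quasiSeparatedSpace_of_quasiSeparated (f ∣_ W.1)
  haveI : L.IsQuasicoherent := Groth.Agent.Helper1.InvQc.isQuasicoherent_of_isInvertible L hL
  have hLfp : CohB1.IsFP L := isFP_of_isFinLocFreeOfRank L (isFinLocFreeOfRank_one hL)
  obtain ⟨j, Gj, hGjqc, hGjfp, ⟨e⟩⟩ :=
    exists_descend_bc (nbDiag S s) (nbCone S s) hc W (restr f s W) hY L hLfp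
  haveI := hGjqc
  have h1 : FlatMod.IsFinLocFreeOfRank 1 ((Scheme.Modules.pullback (bcπ (D := nbDiag S s) (c := nbCone S s) (a := restr f s W) hY j)).obj Gj) :=
    isFinLocFreeOfRank_of_iso e.symm (isFinLocFreeOfRank_one hL)
  haveI : ∀ (j k : Over W) (u : j ⟶ k),
      IsAffineHom ((bcDiagram (nbDiag S s) W (restr f s W)).map u) := fun _ _ u => inferInstance
  obtain ⟨k, φ, hk⟩ := (Groth.Agent.Lead.LimZ.isFinLocFreeOfRank_pullback_iff_eventually
    (bcDiagram (nbDiag S s) W (restr f s W)) (bcCone (D := nbDiag S s) (c := nbCone S s) (a := restr f s W) hY) (isLimitBcCone hc hY) j Gj hGjfp 1).1 h1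
  have hFk := isInvertible_of_rank_one hk
  have hP := isPullback_stage f W k
  refine ⟨k.left.1, k.left.2.2, (Scheme.Modules.pullback (stageIso f k.left.1 hP).inv).obj
    ((Scheme.Modules.pullback ((bcDiagram (nbDiag S s) W (restr f s W)).map φ)).obj Gj),
    Groth.Agent.Helper1.PullGen.isInvertible_pullback _ hFk, ?_⟩
  intro ι hι
  let πk : pullback f (S.fromSpecStalk s) ⟶
      (bcDiagram (nbDiag S s) W (restr f s W)).obj k := bcπ (D := nbDiag S s) (c := nbCone S s) (a := restr f s W) hY k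
  have h2 : ι ≫ (stageIso f k.left.1 hP).inv = πk := by
    apply comp_stageIso_inv f k.left.1 hP πk ι
    rw [hι, ← Category.assoc]
    have h3 : πk ≫ pullback.fst (f ∣_ W.1) ((nbDiag S s).map k.hom) = toPreimage f W :=
      bcCone_π_fst (D := nbDiag S s) (c := nbCone S s) (a := restr f s W) hY k
    rw [h3, toPreimage_ι]
  exact ⟨(pullbackFacIso h2 _).symm ≪≫ (pullbackFacIso ((bcCone (D := nbDiag S s) (c := nbCone S s) (a := restr f s W) hY).w φ) Gj).symm ≪≫ e⟩

/-- global generation of the pullback of an invertible module to the base change of `X` to the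
local scheme of `S` at `s` spreads out to the preimage of an open neighbourhood of `s`. -/
theorem exists_nhd_globallyGenerated (L : X.Modules) (hL : PicF.IsInvertible L)
    (h : Curv2.IsGloballyGenerated
      ((Scheme.Modules.pullback (pullback.fst f (S.fromSpecStalk s))).obj L)) :
    ∃ V : S.Opens, s ∈ V ∧ Curv2.IsGloballyGenerated (L.restrict (f ⁻¹ᵁ V).ι) := by
  obtain ⟨W⟩ := (inferInstance : Nonempty (Nb S s))
  obtain ⟨hc⟩ := isLimit_nbCone S s
  have hY := isPullback_restr f s W
  have hI : ∀ {i j : Nb S s} (f : i ⟶ j), IsAffineHom ((nbDiag S s).map f) :=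
    fun f => inferInstance
  haveI : QuasiCompact (f ∣_ W.1) := MorphismProperty.of_isPullback (P := @QuasiCompact)
    (isPullback_morphismRestrict f W.1).flip inferInstance
  haveI : QuasiSeparated (f ∣_ W.1) := MorphismProperty.of_isPullback (P := @QuasiSeparated)
    (isPullback_morphismRestrict f W.1).flip inferInstance
  haveI : IsAffine (W.1.toScheme) := W.2.1
  haveI : CompactSpace ↥(f ⁻¹ᵁ W.1).toScheme :=
    QuasiCompact.compactSpace_of_compactSpace (f ∣_ W.1)
  haveI : QuasiSeparatedSpace ↥(f ⁻¹ᵁ W.1).toScheme :=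
    quasiSeparatedSpace_of_quasiSeparated (f ∣_ W.1)
  haveI : IsAffineHom ((nbCone S s).π.app W) := isAffineHom_π_app (nbDiag S s) (nbCone S s) hc W
  haveI : IsAffineHom (toPreimage f W) :=
    MorphismProperty.of_isPullback (P := @IsAffineHom) hY.flip inferInstance
  haveI : CompactSpace ↥(pullback f (S.fromSpecStalk s)) :=
    QuasiCompact.compactSpace_of_compactSpace (toPreimage f W)
  haveI hLqc : L.IsQuasicoherent := Groth.Agent.Helper1.InvQc.isQuasicoherent_of_isInvertible L hL
  have hLft : CohB1.IsFT L := (Groth.Agent.Helper1.InvQc.isCoh_of_isInvertible L hL).2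
  haveI : ((Scheme.Modules.pullback (pullback.fst f (S.fromSpecStalk s))).obj L).IsQuasicoherent :=
    Groth.Agent.Lead.PB.isQuasicoherent_pullback _ L
  have hMft := Groth.Agent.Lead.PB.isFT_pullback (pullback.fst f (S.fromSpecStalk s)) L hLft
  obtain ⟨n, q, hq⟩ := exists_finite_epi _ hMft h
  -- the initial stage
  let j₀ : Over W := Over.mk (𝟙 W)
  let m₀ : (bcDiagram (nbDiag S s) W (restr f s W)).obj j₀ ⟶ X :=
    bcFst (nbDiag S s) W (restr f s W) j₀ ≫ (f ⁻¹ᵁ W.1).ι
  have hm₀ : bcπ (D := nbDiag S s) (c := nbCone S s) (a := restr f s W) hY j₀ ≫ m₀ = pullback.fst f (S.fromSpecStalk s) := by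
    rw [← Category.assoc, bcπ_bcFst (D := nbDiag S s) (c := nbCone S s) (a := restr f s W) hY j₀,
      toPreimage_ι]
  haveI : ((Scheme.Modules.pullback m₀).obj L).IsQuasicoherent :=
    Groth.Agent.Lead.PB.isQuasicoherent_pullback m₀ L
  have hL₀ft : CohB1.IsFT ((Scheme.Modules.pullback m₀).obj L) :=
    Groth.Agent.Lead.PB.isFT_pullback m₀ L hLft
  have hF₀ := isFinLocFreeOfRank_freeMod (X := (bcDiagram (nbDiag S s) W (restr f s W)).obj j₀) n
  haveI : (FlatMod.freeMod ((bcDiagram (nbDiag S s) W (restr f s W)).obj j₀) n).IsQuasicoherent :=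
    Groth.Agent.Lead.FLF.isQuasicoherent_of_isFinLocFree _ (isFinLocFree_of_rank hF₀)
  have hF₀fp := isFP_of_isFinLocFreeOfRank _ hF₀
  let hh : (Scheme.Modules.pullback (bcπ (D := nbDiag S s) (c := nbCone S s) (a := restr f s W) hY j₀)).obj
        (FlatMod.freeMod ((bcDiagram (nbDiag S s) W (restr f s W)).obj j₀) n) ⟶
      (Scheme.Modules.pullback (bcπ (D := nbDiag S s) (c := nbCone S s) (a := restr f s W) hY j₀)).obj ((Scheme.Modules.pullback m₀).obj L) :=
    (Groth.Agent.Lib.Helper5.PerfPull.pullbackFreeIso (bcπ (D := nbDiag S s) (c := nbCone S s) (a := restr f s W) hY j₀) n).hom ≫ q ≫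
      (pullbackFacIso hm₀ L).hom
  haveI : Epi hh := by
    haveI := hq
    infer_instance
  obtain ⟨l, ψ, hl, hlepi⟩ := exists_stage_epi_hom_bc (nbDiag S s) (nbCone S s) hc W (restr f s W)
    hY j₀ _ _ hF₀fp hL₀ft hh
  have hP := isPullback_stage f W l
  let θ := stageIso f l.left.1 hP
  let t := (bcDiagram (nbDiag S s) W (restr f s W)).map ψ
  have hd : (θ.inv ≫ t) ≫ m₀ = (f ⁻¹ᵁ l.left.1).ι := by
    have h4 : t ≫ m₀ = pullback.fst (f ∣_ W.1) ((nbDiag S s).map l.hom) ≫ (f ⁻¹ᵁ W.1).ι :=
      bcDiagram_map_bcFst_assoc ψ _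
    rw [Category.assoc, h4]
    exact stageIso_inv_m f l.left.1 hP
  let r : FlatMod.freeMod (↑(f ⁻¹ᵁ l.left.1) : Scheme.{u}) n ⟶ L.restrict (f ⁻¹ᵁ l.left.1).ι :=
    (Groth.Agent.Lib.Helper5.PerfPull.pullbackFreeIso θ.inv n).inv ≫
      (Scheme.Modules.pullback θ.inv).map
        ((Groth.Agent.Lib.Helper5.PerfPull.pullbackFreeIso t n).inv ≫ hl) ≫
      (pullbackFacIso (rfl : θ.inv ≫ t = θ.inv ≫ t) ((Scheme.Modules.pullback m₀).obj L)).inv ≫
      (pullbackFacIso hd L).inv ≫
      (Scheme.Modules.restrictFunctorIsoPullback (f ⁻¹ᵁ l.left.1).ι).inv.app L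
  haveI : Epi r := by
    haveI := hlepi
    haveI : Epi ((Groth.Agent.Lib.Helper5.PerfPull.pullbackFreeIso t n).inv ≫ hl) := epi_comp _ _
    haveI := epi_pullback_map θ.inv
      ((Groth.Agent.Lib.Helper5.PerfPull.pullbackFreeIso t n).inv ≫ hl)
    infer_instance
  exact ⟨l.left.1, l.left.2.2, isGloballyGenerated_of_epi_freeMod r⟩

end Main

end Groth.Agent.Helper7.StalkLim
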