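import Mathlib
import Groth.Agent.Lib.Helper7.StalkLim.Cone
import Groth.Agent.Lib.Helper7.LimBC

set_option linter.style.haveILetI false
set_option linter.unusedVariables false
set_option linter.unusedSectionVars false
set_option autoImplicit false
set_option backward.isDefEq.respectTransparency.types false
set_option backward.isDefEq.respectTransparency false
set_option synthInstance.maxHeartbeats 400000
set_option maxHeartbeats 1600000

universe u

/-! helper7: glueing morphisms near a closed point: a morphism to a scheme locally of finite presentation over the base is the same as a compatible pair of morphisms on the complement of the point and on the local scheme at the point (flat surjective epimorphism for uniqueness; spreading out and agreement via the limit of affine neighbourhoods) -/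

open CategoryTheory CategoryTheory.Limits AlgebraicGeometry Opposite TopologicalSpace

namespace Groth.Agent.Helper7.StalkLim

open Groth.Agent.Helper7.LimBC

section Glue

variable {X Y : Scheme.{u}}

theorem pullback_fst_eq_snd_of_mono {A B : Scheme.{u}} (i : A ⟶ B) [Mono i] :
    pullback.fst i i = pullback.snd i i := by
  rw [← cancel_mono i]
  exact pullback.condition

/-- glueing two morphisms defined on two open subsets covering the scheme. -/
theorem exists_glue_two (U V : X.Opens) (hUV : U ⊔ V = ⊤) (a : U.toScheme ⟶ Y)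
    (b : V.toScheme ⟶ Y)
    (hab : X.homOfLE (inf_le_left : U ⊓ V ≤ U) ≫ a = X.homOfLE (inf_le_right : U ⊓ V ≤ V) ≫ b) :
    ∃ g : X ⟶ Y, U.ι ≫ g = a ∧ V.ι ≫ g = b := by
  let Uf : Bool → X.Opens := fun i => cond i U V
  have hcov : IsOpenCover Uf := by
    apply IsOpenCover.mk
    rw [eq_top_iff, ← hUV]
    exact sup_le (le_iSup Uf true) (le_iSup Uf false)
  let 𝒰 := X.openCoverOfIsOpenCover Uf hcov
  let ff : ∀ i : Bool, (Uf i).toScheme ⟶ Y :=
    fun i => Bool.rec (motive := fun i => (Uf i).toScheme ⟶ Y) b a i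
  have hinf := isPullback_opens_inf U V
  have hf : ∀ i j, pullback.fst (𝒰.f i) (𝒰.f j) ≫ ff i = pullback.snd (𝒰.f i) (𝒰.f j) ≫ ff j := by
    intro i j
    cases i <;> cases j
    · show pullback.fst V.ι V.ι ≫ b = pullback.snd V.ι V.ι ≫ b
      rw [pullback_fst_eq_snd_of_mono]
    · show pullback.fst V.ι U.ι ≫ b = pullback.snd V.ι U.ι ≫ a
      have h1 := hinf.lift_fst (pullback.snd V.ι U.ι) (pullback.fst V.ι U.ι)
        pullback.condition.symm
      have h2 := hinf.lift_snd (pullback.snd V.ι U.ι) (pullback.fst V.ι U.ι)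
        pullback.condition.symm
      calc pullback.fst V.ι U.ι ≫ b
          = (hinf.lift (pullback.snd V.ι U.ι) (pullback.fst V.ι U.ι) pullback.condition.symm ≫
              X.homOfLE inf_le_right) ≫ b := by rw [h2]
        _ = (hinf.lift (pullback.snd V.ι U.ι) (pullback.fst V.ι U.ι) pullback.condition.symm ≫
              X.homOfLE inf_le_left) ≫ a := by rw [Category.assoc, Category.assoc, hab]
        _ = pullback.snd V.ι U.ι ≫ a := by rw [h1]
    · show pullback.fst U.ι V.ι ≫ a = pullback.snd U.ι V.ι ≫ b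
      have h1 := hinf.lift_fst (pullback.fst U.ι V.ι) (pullback.snd U.ι V.ι) pullback.condition
      have h2 := hinf.lift_snd (pullback.fst U.ι V.ι) (pullback.snd U.ι V.ι) pullback.condition
      calc pullback.fst U.ι V.ι ≫ a
          = (hinf.lift (pullback.fst U.ι V.ι) (pullback.snd U.ι V.ι) pullback.condition ≫
              X.homOfLE inf_le_left) ≫ a := by rw [h1]
        _ = (hinf.lift (pullback.fst U.ι V.ι) (pullback.snd U.ι V.ι) pullback.condition ≫
              X.homOfLE inf_le_right) ≫ b := by rw [Category.assoc, Category.assoc, hab]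
        _ = pullback.snd U.ι V.ι ≫ b := by rw [h2]
    · show pullback.fst U.ι U.ι ≫ a = pullback.snd U.ι U.ι ≫ a
      rw [pullback_fst_eq_snd_of_mono]
  exact ⟨𝒰.glueMorphisms ff hf, 𝒰.ι_glueMorphisms ff hf true, 𝒰.ι_glueMorphisms ff hf false⟩

theorem flat_fromSpecStalk (X : Scheme.{u}) (x : X) : Flat (X.fromSpecStalk x) := by
  obtain ⟨_, ⟨U, hU, rfl⟩, hxU, -⟩ :=
    X.isBasis_affineOpens.exists_subset_of_mem_open (Set.mem_univ x) isOpen_univ
  rw [← hU.fromSpecStalk_eq_fromSpecStalk hxU, IsAffineOpen.fromSpecStalk]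
  haveI : Flat (Spec.map (X.presheaf.germ U x hxU)) := by
    rw [Flat.SpecMap_iff]
    let _ := X.presheaf.algebra_section_stalk ⟨x, hxU⟩
    have := hU.isLocalization_stalk ⟨x, hxU⟩
    exact IsLocalization.flat (X.presheaf.stalk x) (hU.primeIdealOf ⟨x, hxU⟩).asIdeal.primeCompl
  infer_instance

/-- a morphism is determined by its restrictions to the complement of a closed point and to
the local scheme at that point. -/
theorem hom_ext_of_compl_closedPoint (x : X) (U : X.Opens) (hU : (U : Set X) = {x}ᶜ)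
    (g₁ g₂ : X ⟶ Y) (h1 : U.ι ≫ g₁ = U.ι ≫ g₂)
    (h2 : X.fromSpecStalk x ≫ g₁ = X.fromSpecStalk x ≫ g₂) : g₁ = g₂ := by
  let c : U.toScheme ⨿ Spec (X.presheaf.stalk x) ⟶ X := coprod.desc U.ι (X.fromSpecStalk x)
  haveI : Flat c := by
    refine IsZariskiLocalAtSource.of_openCover (P := @Flat) (coprodOpenCover.{_, 0} _ _) ?_
    rintro (i | i)
    · show Flat (coprod.inl ≫ c)
      rw [coprod.inl_desc]
      infer_instance
    · show Flat (coprod.inr ≫ c)
      rw [coprod.inr_desc]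
      exact flat_fromSpecStalk X x
  haveI : Surjective c := by
    refine ⟨fun y => ?_⟩
    by_cases hy : y = x
    · refine ⟨(coprod.inr : Spec (X.presheaf.stalk x) ⟶ U.toScheme ⨿ Spec (X.presheaf.stalk x))
        (IsLocalRing.closedPoint _), ?_⟩
      rw [← Scheme.Hom.comp_apply, coprod.inr_desc, hy]
      exact Scheme.fromSpecStalk_closedPoint
    · have hyU : y ∈ U := by
        have : y ∈ (U : Set X) := by rw [hU]; exact hy
        exact this
      refine ⟨(coprod.inl : U.toScheme ⟶ U.toScheme ⨿ Spec (X.presheaf.stalk x)) ⟨y, hyU⟩, ?_⟩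
      rw [← Scheme.Hom.comp_apply, coprod.inl_desc]
      rfl
  haveI : Epi c := Flat.epi_of_flat_of_surjective c
  rw [← cancel_epi c]
  apply coprod.hom_ext
  · rw [← Category.assoc, ← Category.assoc, coprod.inl_desc]
    exact h1
  · rw [← Category.assoc, ← Category.assoc, coprod.inr_desc]
    exact h2

theorem restrict_comp_aux {A B : Scheme.{u}} (φ : A ⟶ X) (π : A ⟶ B) (i : B ⟶ X)
    (hφ : φ = π ≫ i) (U : X.Opens) (a : U.toScheme ⟶ Y) (b : A ⟶ Y)
    (h : (φ ⁻¹ᵁ U).ι ≫ b = (φ ∣_ U) ≫ a) :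
    (π ⁻¹ᵁ (i ⁻¹ᵁ U)).ι ≫ b = (π ∣_ (i ⁻¹ᵁ U)) ≫ (i ∣_ U) ≫ a := by
  subst hφ
  rw [morphismRestrict_comp, Category.assoc] at h
  exact h

end Glue

section Main

variable {X Y S : Scheme.{u}} (p : X ⟶ S) (q : Y ⟶ S) [LocallyOfFinitePresentation q] (x : X)

/-- the structure morphisms of the affine open neighbourhoods. -/
noncomputable def nbStr : nbDiag X x ⟶ (Functor.const (Nb X x)).obj S where
  app W := W.1.ι ≫ p
  naturality U V f := by
    show X.homOfLE (Subtype.coe_le_coe.mpr (leOfHom f)) ≫ V.1.ι ≫ p = (U.1.ι ≫ p) ≫ 𝟙 S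
    rw [Category.comp_id, X.homOfLE_ι_assoc]

/-- a morphism from the local scheme to a scheme locally of finite presentation over the base
spreads out to an affine open neighbourhood. -/
theorem exists_spread (b : Spec (X.presheaf.stalk x) ⟶ Y) (hb : b ≫ q = X.fromSpecStalk x ≫ p) :
    ∃ (W : Nb X x) (g : W.1.toScheme ⟶ Y),
      (nbCone X x).π.app W ≫ g = b ∧ g ≫ q = W.1.ι ≫ p := by
  obtain ⟨hc⟩ := isLimit_nbCone X x
  have hI : ∀ {i j : Nb X x} (f : i ⟶ j), IsAffineHom ((nbDiag X x).map f) :=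
    fun f => inferInstance
  haveI : ∀ i : Nb X x, CompactSpace ((nbDiag X x).obj i) := fun i => inferInstance
  haveI : ∀ i : Nb X x, QuasiSeparatedSpace ((nbDiag X x).obj i) := fun i => inferInstance
  have ha : (nbCone X x).π ≫ nbStr p x = (Functor.const _).map (b ≫ q) := by
    ext W
    show (nbCone X x).π.app W ≫ W.1.ι ≫ p = b ≫ q
    rw [← Category.assoc, nbCone_π_ι, hb]
  exact Scheme.exists_π_app_comp_eq_of_locallyOfFinitePresentation (nbDiag X x) (nbStr p x) q
    (nbCone X x) hc b ha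

/-- the trace of an open subset on an affine open neighbourhood. -/
abbrev punct (U : X.Opens) (W : Nb X x) : W.1.toScheme.Opens := W.1.ι ⁻¹ᵁ U

/-- two morphisms on the trace of `U` on an affine open neighbourhood which agree on the
local scheme agree on the trace of `U` on a smaller neighbourhood. -/
theorem exists_agree (U : X.Opens) [QuasiCompact U.ι] (a : U.toScheme ⟶ Y)
    (ha : a ≫ q = U.ι ≫ p) (W : Nb X x) (g : W.1.toScheme ⟶ Y) (hg : g ≫ q = W.1.ι ≫ p)
    (hag : ((nbCone X x).π.app W ⁻¹ᵁ (punct x U W)).ι ≫ (nbCone X x).π.app W ≫ g =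
      ((nbCone X x).π.app W ∣_ (punct x U W)) ≫ (W.1.ι ∣_ U) ≫ a) :
    ∃ (W' : Nb X x) (hW' : W'.1 ≤ W.1), X.homOfLE (inf_le_left : U ⊓ W'.1 ≤ U) ≫ a =
      X.homOfLE (inf_le_right : U ⊓ W'.1 ≤ W'.1) ≫ X.homOfLE hW' ≫ g := by
  obtain ⟨hc⟩ := isLimit_nbCone X x
  have hI : ∀ {i j : Nb X x} (f : i ⟶ j), IsAffineHom ((nbDiag X x).map f) :=
    fun f => inferInstance
  have hY' : IsPullback (Y := (nbCone X x).pt) (Z := (nbDiag X x).obj W)
      ((nbCone X x).π.app W ∣_ (punct x U W)) (((nbCone X x).π.app W) ⁻¹ᵁ (punct x U W)).ι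
      (punct x U W).ι ((nbCone X x).π.app W) :=
    isPullback_morphismRestrict ((nbCone X x).π.app W) (punct x U W)
  haveI : QuasiCompact (punct x U W).ι := MorphismProperty.of_isPullback (P := @QuasiCompact)
    (isPullback_morphismRestrict W.1.ι U) inferInstance
  haveI : IsAffine (W.1.toScheme) := W.2.1
  haveI : CompactSpace ↥(punct x U W).toScheme :=
    QuasiCompact.compactSpace_of_compactSpace (punct x U W).ι
  haveI : ∀ (j k : Over W) (u : j ⟶ k),
      IsAffineHom ((bcDiagram (nbDiag X x) W (punct x U W).ι).map u) := fun _ _ u => inferInstance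
  have hI' : ∀ {j k : Over W} (u : j ⟶ k),
      IsAffineHom ((bcDiagram (nbDiag X x) W (punct x U W).ι).map u) := fun u => inferInstance
  haveI : ∀ j : Over W, CompactSpace ((bcDiagram (nbDiag X x) W (punct x U W).ι).obj j) :=
    fun j => inferInstance
  let t' : bcDiagram (nbDiag X x) W (punct x U W).ι ⟶ (Functor.const (Over W)).obj S :=
    { app := fun j => pullback.fst (punct x U W).ι ((nbDiag X x).map j.hom) ≫
        (punct x U W).ι ≫ W.1.ι ≫ p
      naturality := fun j k u => by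
        show (bcDiagram (nbDiag X x) W (punct x U W).ι).map u ≫
          pullback.fst (punct x U W).ι ((nbDiag X x).map k.hom) ≫
            (punct x U W).ι ≫ W.1.ι ≫ p =
          (pullback.fst (punct x U W).ι ((nbDiag X x).map j.hom) ≫
            (punct x U W).ι ≫ W.1.ι ≫ p) ≫ 𝟙 S
        rw [Category.comp_id, bcDiagram_map_fst_assoc] }
  let j₀ : Over W := Over.mk (𝟙 W)
  have ha₁ : t'.app j₀ = (pullback.fst (punct x U W).ι ((nbDiag X x).map j₀.hom) ≫
      (W.1.ι ∣_ U) ≫ a) ≫ q := by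
    show pullback.fst (punct x U W).ι ((nbDiag X x).map j₀.hom) ≫
        (punct x U W).ι ≫ W.1.ι ≫ p =
      (pullback.fst (punct x U W).ι ((nbDiag X x).map j₀.hom) ≫ (W.1.ι ∣_ U) ≫ a) ≫ q
    rw [Category.assoc, Category.assoc, ha, morphismRestrict_ι_assoc]
  have hb₁ : t'.app j₀ = (pullback.fst (punct x U W).ι ((nbDiag X x).map j₀.hom) ≫
      (punct x U W).ι ≫ g) ≫ q := by
    show pullback.fst (punct x U W).ι ((nbDiag X x).map j₀.hom) ≫
        (punct x U W).ι ≫ W.1.ι ≫ p =
      (pullback.fst (punct x U W).ι ((nbDiag X x).map j₀.hom) ≫ (punct x U W).ι ≫ g) ≫ q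
    rw [Category.assoc, Category.assoc, hg]
  have hab : (bcCone (D := nbDiag X x) (c := nbCone X x) (a := (punct x U W).ι) hY').π.app j₀ ≫
        (pullback.fst (punct x U W).ι ((nbDiag X x).map j₀.hom) ≫ (W.1.ι ∣_ U) ≫ a) =
      (bcCone (D := nbDiag X x) (c := nbCone X x) (a := (punct x U W).ι) hY').π.app j₀ ≫
        (pullback.fst (punct x U W).ι ((nbDiag X x).map j₀.hom) ≫ (punct x U W).ι ≫ g) := by
    rw [bcCone_π_fst_assoc, bcCone_π_fst_assoc, ← hag, morphismRestrict_ι_assoc]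
  obtain ⟨k, hk, hkeq⟩ := Scheme.exists_hom_comp_eq_comp_of_locallyOfFiniteType
    (bcDiagram (nbDiag X x) W (punct x U W).ι) t' q
    (bcCone (D := nbDiag X x) (c := nbCone X x) (a := (punct x U W).ι) hY')
    (isLimitBcCone hc hY') _ _ ha₁ hb₁ hab
  rw [bcDiagram_map_fst_assoc, bcDiagram_map_fst_assoc] at hkeq
  have hW' : k.left.1 ≤ W.1 := Subtype.coe_le_coe.mpr (leOfHom k.hom)
  refine ⟨k.left, hW', ?_⟩
  have hε₁a := (isPullback_morphismRestrict W.1.ι U).lift_fst
    (X.homOfLE (inf_le_left : U ⊓ k.left.1 ≤ U))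
    (X.homOfLE ((inf_le_right : U ⊓ k.left.1 ≤ k.left.1).trans hW'))
    (by rw [X.homOfLE_ι, X.homOfLE_ι])
  have hε₁b := (isPullback_morphismRestrict W.1.ι U).lift_snd
    (X.homOfLE (inf_le_left : U ⊓ k.left.1 ≤ U))
    (X.homOfLE ((inf_le_right : U ⊓ k.left.1 ≤ k.left.1).trans hW'))
    (by rw [X.homOfLE_ι, X.homOfLE_ι])
  set ε₁ := (isPullback_morphismRestrict W.1.ι U).lift
    (X.homOfLE (inf_le_left : U ⊓ k.left.1 ≤ U))
    (X.homOfLE ((inf_le_right : U ⊓ k.left.1 ≤ k.left.1).trans hW'))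
    (by rw [X.homOfLE_ι, X.homOfLE_ι]) with hε₁
  have hcomm : ε₁ ≫ (punct x U W).ι =
      X.homOfLE (inf_le_right : U ⊓ k.left.1 ≤ k.left.1) ≫ (nbDiag X x).map k.hom := by
    rw [hε₁b]
    exact (X.homOfLE_homOfLE (inf_le_right : U ⊓ k.left.1 ≤ k.left.1) hW').symm
  have hεfst : pullback.lift ε₁ (X.homOfLE (inf_le_right : U ⊓ k.left.1 ≤ k.left.1)) hcomm ≫
      pullback.fst (punct x U W).ι ((nbDiag X x).map k.hom) = ε₁ := pullback.lift_fst _ _ _
  calc X.homOfLE (inf_le_left : U ⊓ k.left.1 ≤ U) ≫ a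
      = (ε₁ ≫ (W.1.ι ∣_ U)) ≫ a := by rw [hε₁a]
    _ = pullback.lift ε₁ (X.homOfLE (inf_le_right : U ⊓ k.left.1 ≤ k.left.1)) hcomm ≫
          pullback.fst (punct x U W).ι ((nbDiag X x).map k.hom) ≫ (W.1.ι ∣_ U) ≫ a := by
        rw [← Category.assoc, hεfst, Category.assoc]
    _ = pullback.lift ε₁ (X.homOfLE (inf_le_right : U ⊓ k.left.1 ≤ k.left.1)) hcomm ≫
          pullback.fst (punct x U W).ι ((nbDiag X x).map k.hom) ≫ (punct x U W).ι ≫ g := by
        rw [hkeq]
    _ = (ε₁ ≫ (punct x U W).ι) ≫ g := by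
        rw [← Category.assoc, hεfst, Category.assoc]
    _ = X.homOfLE (inf_le_right : U ⊓ k.left.1 ≤ k.left.1) ≫ X.homOfLE hW' ≫ g := by
        rw [hcomm, Category.assoc]
        rfl

/-- glueing morphisms near a closed point. -/
theorem hom_glueing (U : X.Opens) (hU : (U : Set X) = {x}ᶜ) [QuasiCompact U.ι] :
    (∀ g₁ g₂ : X ⟶ Y, U.ι ≫ g₁ = U.ι ≫ g₂ →
      X.fromSpecStalk x ≫ g₁ = X.fromSpecStalk x ≫ g₂ → g₁ = g₂) ∧
    (∀ (a : (U : Scheme.{u}) ⟶ Y) (b : Spec (X.presheaf.stalk x) ⟶ Y), a ≫ q = U.ι ≫ p →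
      b ≫ q = X.fromSpecStalk x ≫ p →
      ((X.fromSpecStalk x) ⁻¹ᵁ U).ι ≫ b = ((X.fromSpecStalk x) ∣_ U) ≫ a →
        ∃ g : X ⟶ Y, g ≫ q = p ∧ U.ι ≫ g = a ∧ X.fromSpecStalk x ≫ g = b) := by
  refine ⟨fun g₁ g₂ h1 h2 => hom_ext_of_compl_closedPoint x U hU g₁ g₂ h1 h2, ?_⟩
  intro a b ha hb hab
  obtain ⟨W, g, hg1, hg2⟩ := exists_spread p q x b hb
  have hag : ((nbCone X x).π.app W ⁻¹ᵁ (punct x U W)).ι ≫ (nbCone X x).π.app W ≫ g =
      ((nbCone X x).π.app W ∣_ (punct x U W)) ≫ (W.1.ι ∣_ U) ≫ a := by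
    rw [hg1]
    exact restrict_comp_aux (X.fromSpecStalk x) ((nbCone X x).π.app W) W.1.ι
      (nbCone_π_ι X x W).symm U a b hab
  obtain ⟨W', hW', hagree⟩ := exists_agree p q x U a ha W g hg2 hag
  have hcov : U ⊔ W'.1 = ⊤ := by
    rw [eq_top_iff]
    intro y _
    show y ∈ ((U ⊔ W'.1 : X.Opens) : Set X)
    rw [TopologicalSpace.Opens.coe_sup]
    by_cases hy : y = x
    · exact Or.inr (hy ▸ W'.2.2)
    · refine Or.inl ?_
      rw [hU]
      exact hy
  obtain ⟨G, hG1, hG2⟩ := exists_glue_two U W'.1 hcov a (X.homOfLE hW' ≫ g) hagree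
  have hGb : X.fromSpecStalk x ≫ G = b := by
    rw [← nbCone_π_ι X x W', Category.assoc, hG2, ← hg1, ← Category.assoc]
    congr 1
    exact (nbCone X x).w (homOfLE (show W' ≤ W from hW'))
  refine ⟨G, ?_, hG1, hGb⟩
  apply hom_ext_of_compl_closedPoint x U hU
  · rw [← Category.assoc, hG1, ha]
  · rw [← Category.assoc, hGb, hb]

end Main

end Groth.Agent.Helper7.StalkLim
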